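import Groth.Agent.H53.Gor.ChartLN
import Groth.Agent.H1.FlatLocusSp

/-!
# Chart independence of Gorensteinness at a point for morphisms of sheaves
-/

set_option autoImplicit false
universe u
open CategoryTheory CategoryTheory.Limits AlgebraicGeometry Opposite

namespace Groth.Agent.H53.Gor
open AlgSp

variable {S : Scheme.{u}}

/-- **Chart independence** of Gorensteinness at a point, for a morphism whose fibres over field
points are locally Noetherian. -/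
theorem gorAt_chart_indep {X Y : Sp S} (f : X ⟶ Y)
    (hf : ∀ (k : FieldPt Y) (Xk : Sp S) (a : Xk ⟶ X) (b : Xk ⟶ (yon S).obj k.pt),
      IsPullback a b f k.toHom → IsLocNoethSp Xk)
    {U₁ V₁ U₂ V₂ : Over S}
    (a₁ : (yon S).obj U₁ ⟶ X) (b₁ : (yon S).obj V₁ ⟶ Y) (h₁ : U₁ ⟶ V₁)
    (ha₁ : RepWith @Etale a₁) (hb₁ : RepWith @Etale b₁) (e₁ : a₁ ≫ f = (yon S).map h₁ ≫ b₁)
    (a₂ : (yon S).obj U₂ ⟶ X) (b₂ : (yon S).obj V₂ ⟶ Y) (h₂ : U₂ ⟶ V₂)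
    (ha₂ : RepWith @Etale a₂) (hb₂ : RepWith @Etale b₂) (e₂ : a₂ ≫ f = (yon S).map h₂ ≫ b₂)
    (u₁ : ↥U₁.left) (u₂ : ↥U₂.left) (hu : Points.ofPt a₁ u₁ = Points.ofPt a₂ u₂)
    (hq : Dual3.IsGorensteinAt h₂.left u₂) : Dual3.IsGorensteinAt h₁.left u₁ := by
  obtain ⟨P, p₁, p₂, p, hp₁, hp₂, hpu₁, hpu₂, hcomm⟩ :=
    Groth.Agent.H51.exists_common_etale_refinement a₁ ha₁ a₂ ha₂ u₁ u₂ hu
  obtain ⟨V₃, q₁, q₂, sqV⟩ := Groth.Agent.H53.exists_pullback_yon b₁ b₂ hb₂.rep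
  have hq₁e : Etale q₁.left := Groth.Agent.H53.prop_of_isPullback_yon sqV hb₂
  have hq₂e : Etale q₂.left := Groth.Agent.H53.prop_of_isPullback_yon sqV.flip hb₁
  have hw : (yon S).map (p₁ ≫ h₁) ≫ b₁ = (yon S).map (p₂ ≫ h₂) ≫ b₂ := by
    rw [Functor.map_comp, Functor.map_comp, Category.assoc, Category.assoc, ← e₁, ← e₂,
      ← Category.assoc, ← Category.assoc, hcomm]
  obtain ⟨k, hk⟩ := (yon S).map_surjective (sqV.lift _ _ hw)
  have hk1 : k ≫ q₁ = p₁ ≫ h₁ := (yon S).map_injective (by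
    rw [Functor.map_comp, hk]; exact sqV.lift_fst _ _ hw)
  have hk2 : k ≫ q₂ = p₂ ≫ h₂ := (yon S).map_injective (by
    rw [Functor.map_comp, hk]; exact sqV.lift_snd _ _ hw)
  have hk1l : k.left ≫ q₁.left = p₁.left ≫ h₁.left := congrArg (fun m => m.left) hk1
  have hk2l : k.left ≫ q₂.left = p₂.left ≫ h₂.left := congrArg (fun m => m.left) hk2
  subst hpu₁ hpu₂
  -- the charts involved
  have hap₁ : RepWith @Etale ((yon S).map p₁ ≫ a₁) :=
    Groth.Agent.H53.repWith_etale_map_comp p₁ hp₁ a₁ ha₁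
  have hap₂ : RepWith @Etale ((yon S).map p₂ ≫ a₂) :=
    Groth.Agent.H53.repWith_etale_map_comp p₂ hp₂ a₂ ha₂
  have hb₃ : RepWith @Etale ((yon S).map q₁ ≫ b₁) :=
    Groth.Agent.H53.repWith_etale_map_comp q₁ hq₁e b₁ hb₁
  have w₁ : ((yon S).map p₁ ≫ a₁) ≫ f = (yon S).map (p₁ ≫ h₁) ≫ b₁ := by
    rw [Category.assoc, e₁, Functor.map_comp, Category.assoc]
  have w₂ : ((yon S).map p₂ ≫ a₂) ≫ f = (yon S).map (p₂ ≫ h₂) ≫ b₂ := by
    rw [Category.assoc, e₂, Functor.map_comp, Category.assoc]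
  have w₃ : ((yon S).map p₁ ≫ a₁) ≫ f = (yon S).map k ≫ (yon S).map q₁ ≫ b₁ := by
    rw [w₁, ← hk1, Functor.map_comp, Category.assoc]
  -- local Noetherianity of the fibres
  have N₁ : ∀ v, IsLocallyNoetherian (h₁.left.fiber v) :=
    isLocallyNoetherian_fiber_of_chart f hf a₁ b₁ h₁ ha₁ hb₁ e₁
  have N₂ : ∀ v, IsLocallyNoetherian (h₂.left.fiber v) :=
    isLocallyNoetherian_fiber_of_chart f hf a₂ b₂ h₂ ha₂ hb₂ e₂
  have N₁' : ∀ v, IsLocallyNoetherian ((p₁.left ≫ h₁.left).fiber v) :=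
    isLocallyNoetherian_fiber_of_chart f hf _ b₁ (p₁ ≫ h₁) hap₁ hb₁ w₁
  have N₂' : ∀ v, IsLocallyNoetherian ((p₂.left ≫ h₂.left).fiber v) :=
    isLocallyNoetherian_fiber_of_chart f hf _ b₂ (p₂ ≫ h₂) hap₂ hb₂ w₂
  have N₃ : ∀ v, IsLocallyNoetherian (k.left.fiber v) :=
    isLocallyNoetherian_fiber_of_chart f hf _ _ k hap₁ hb₃ w₃
  -- transport along the chain
  have s1 : Dual3.IsGorensteinAt (p₂.left ≫ h₂.left) p :=
    (isGorensteinAt_etale_comp_iff p₂.left h₂.left N₂ N₂' p).2 hq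
  rw [← hk2l] at s1 N₂'
  have s2 : Dual3.IsGorensteinAt k.left p :=
    (isGorensteinAt_comp_etale_iff k.left q₂.left N₃ N₂' p).1 s1
  rw [← hk1l] at N₁'
  have s3 : Dual3.IsGorensteinAt (k.left ≫ q₁.left) p :=
    (isGorensteinAt_comp_etale_iff k.left q₁.left N₃ N₁' p).2 s2
  rw [hk1l] at s3 N₁'
  exact (isGorensteinAt_etale_comp_iff p₁.left h₁.left N₁ N₁' p).1 s3

/-- Gorensteinness at a point can be tested on one chart diagram through the point. -/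
theorem locPAt_gor_iff_chart {X Y : Sp S} (f : X ⟶ Y)
    (hf : ∀ (k : FieldPt Y) (Xk : Sp S) (a : Xk ⟶ X) (b : Xk ⟶ (yon S).obj k.pt),
      IsPullback a b f k.toHom → IsLocNoethSp Xk)
    {U V : Over S} (a : (yon S).obj U ⟶ X) (b : (yon S).obj V ⟶ Y) (h : U ⟶ V)
    (ha : RepWith @Etale a) (hb : RepWith @Etale b) (e : a ≫ f = (yon S).map h ≫ b)
    (u : ↥U.left) :
    LocPAt (fun h u => Dual3.IsGorensteinAt h u) f (Points.ofPt a u) ↔
      Dual3.IsGorensteinAt h.left u := by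
  constructor
  · intro hx
    exact hx a b h u ha hb e rfl
  · intro hq U₂ V₂ a₂ b₂ h₂ u₂ ha₂ hb₂ e₂ hu₂
    exact gorAt_chart_indep f hf a₂ b₂ h₂ ha₂ hb₂ e₂ a b h ha hb e u₂ u hu₂ hq

end Groth.Agent.H53.Gor
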