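import Groth.Agent.S3627
import Groth.Agent.S3625
import Groth.Agent.S0342
import Groth.Agent.H49.CMChart
import Groth.Agent.H1.FlatPt
import Groth.Agent.H53.SmoothFieldRegular

/-!
# Scheme-level lemmas on `Dual3.IsGorensteinAt`: smooth morphisms, étale pre/post-composition
-/

set_option autoImplicit false
universe u
open CategoryTheory CategoryTheory.Limits AlgebraicGeometry

namespace Groth.Agent.H53.Gor

variable {X Y Z : Scheme.{u}}

/-- Smooth morphisms are Gorenstein at every point. -/
theorem isGorensteinAt_of_smooth (f : X ⟶ Y) [Smooth f] (x : X) : Dual3.IsGorensteinAt f x := by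
  refine ⟨Flat.stalkMap f x, ?_⟩
  have : Smooth (f.fiberToSpecResidueField (f x)) :=
    (inferInstance : Smooth (pullback.snd f (Y.fromSpecResidueField (f x))))
  have := Groth.Agent.H53.isRegularLocalRing_stalk_of_smooth_field (Y.residueField (f x))
    (f.fiberToSpecResidueField (f x)) (f.asFiber x)
  exact Groth.Agent.S0342.result _

/-- Fibres of a morphism locally of finite type are locally Noetherian. -/
theorem isLocallyNoetherian_fiber_of_lft (g : X ⟶ Y) [LocallyOfFiniteType g] (y : Y) :
    IsLocallyNoetherian (g.fiber y) :=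
  Groth.Agent.H49.CMChart.isLocallyNoetherian_fiber g y

/-- Étale precomposition does not change Gorensteinness at a point. -/
theorem isGorensteinAt_etale_comp_iff (e : X ⟶ Y) [Etale e] (h : Y ⟶ Z)
    (hfib : ∀ z, IsLocallyNoetherian (h.fiber z))
    (hfib' : ∀ z, IsLocallyNoetherian ((e ≫ h).fiber z)) (x : X) :
    Dual3.IsGorensteinAt (e ≫ h) x ↔ Dual3.IsGorensteinAt h (e x) := by
  have key := Groth.Agent.S3627.result X Y Z e h
    (fun y => isLocallyNoetherian_fiber_of_lft e y) hfib hfib' x
  constructor
  · intro hc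
    exact (key.2 hc (Flat.stalkMap e x)).2
  · intro hh
    exact key.1 (isGorensteinAt_of_smooth e x) hh

/-- Étale postcomposition does not change Gorensteinness at a point. -/
theorem isGorensteinAt_comp_etale_iff (k : X ⟶ Y) (q : Y ⟶ Z) [Etale q]
    (hfib : ∀ y, IsLocallyNoetherian (k.fiber y))
    (hfib' : ∀ z, IsLocallyNoetherian ((k ≫ q).fiber z)) (x : X) :
    Dual3.IsGorensteinAt (k ≫ q) x ↔ Dual3.IsGorensteinAt k x := by
  have key := Groth.Agent.S3627.result X Y Z k q hfib
    (fun y => isLocallyNoetherian_fiber_of_lft q y) hfib' x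
  constructor
  · intro hc
    exact (key.2 hc (Groth.Agent.H1.FlatPt.flat_stalkMap_of_comp_etale k q x hc.1)).1
  · intro hk
    exact key.1 hk (isGorensteinAt_of_smooth q (k x))

end Groth.Agent.H53.Gor
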