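import Groth.Agent.H51.SpFibreNoeth2
import Groth.Agent.H53.ZMT.GenFinDense4
import Groth.Agent.H53.Gor.SchGor

/-!
# Fibres of chart maps of a morphism of sheaves with locally Noetherian fibres
-/

set_option autoImplicit false
universe u
open CategoryTheory CategoryTheory.Limits AlgebraicGeometry Opposite

namespace Groth.Agent.H53.Gor
open AlgSp

noncomputable section

variable {S : Scheme.{u}}

/-- The spectrum of the residue field at a point of a scheme over `S`, over `S`. -/
abbrev resOver (V : Over S) (v : ↥V.left) : Over S :=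
  Over.mk (V.left.fromSpecResidueField v ≫ V.hom)

/-- The inclusion of the residue field point. -/
abbrev resOverι (V : Over S) (v : ↥V.left) : resOver V v ⟶ V :=
  Over.homMk (V.left.fromSpecResidueField v) rfl

/-- The scheme-theoretic fibre of a morphism of schemes over `S`, over `S`. -/
def fibOver {U V : Over S} (h : U ⟶ V) (v : ↥V.left) : Over S :=
  Over.mk (h.left.fiberι v ≫ U.hom)

theorem fibOver_left {U V : Over S} (h : U ⟶ V) (v : ↥V.left) :
    (fibOver h v).left = h.left.fiber v := rfl

/-- The inclusion of the fibre. -/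
def fibOverι {U V : Over S} (h : U ⟶ V) (v : ↥V.left) : fibOver h v ⟶ U :=
  Over.homMk (h.left.fiberι v) rfl

/-- The structure map of the fibre to the residue field point. -/
def fibOverTo {U V : Over S} (h : U ⟶ V) (v : ↥V.left) : fibOver h v ⟶ resOver V v :=
  Over.homMk (h.left.fiberToSpecResidueField v) (by
    change h.left.fiberToSpecResidueField v ≫ V.left.fromSpecResidueField v ≫ V.hom =
      h.left.fiberι v ≫ U.hom
    rw [← Category.assoc, ← Scheme.Hom.fiber_fac, Category.assoc, Over.w h])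

theorem isPullback_fibOver_left {U V : Over S} (h : U ⟶ V) (v : ↥V.left) :
    IsPullback (fibOverι h v).left (fibOverTo h v).left h.left (resOverι V v).left :=
  IsPullback.of_hasPullback h.left (V.left.fromSpecResidueField v)

theorem isPullback_fibOver {U V : Over S} (h : U ⟶ V) (v : ↥V.left) :
    IsPullback (fibOverι h v) (fibOverTo h v) h (resOverι V v) := by
  have hl := isPullback_fibOver_left h v
  have hw : fibOverι h v ≫ h = fibOverTo h v ≫ resOverι V v := by
    ext1
    exact hl.w
  exact IsPullback.of_map (Over.forget S) hw hl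

/-- **Fibre chart.** If the chart `U` of `F` is the fibre product of a chart `U₀` of `F` with a
chart `V` of `G`, then the fibre of `U ⟶ V` over a point is the base change of `U₀ ⟶ F` to the
fibre of `f`. -/
theorem exists_fibre_chart {F G : Sp S} (f : F ⟶ G) {U₀ U V K T : Over S}
    (a₀ : (yon S).obj U₀ ⟶ F) (b : (yon S).obj V ⟶ G) (e : U ⟶ U₀) (h : U ⟶ V)
    (sq : IsPullback ((yon S).map e) ((yon S).map h) (a₀ ≫ f) b)
    (κ : K ⟶ V) (p₁ : T ⟶ U) (p₂ : T ⟶ K) (sqT : IsPullback p₁ p₂ h κ)
    {Xv : Sp S} (pa : Xv ⟶ F) (pc : Xv ⟶ (yon S).obj K)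
    (sqX : IsPullback pa pc f ((yon S).map κ ≫ b)) :
    ∃ c : (yon S).obj T ⟶ Xv, c ≫ pc = (yon S).map p₂ ∧
      IsPullback c ((yon S).map (p₁ ≫ e)) pa a₀ := by
  have big : IsPullback ((yon S).map p₁ ≫ (yon S).map e) ((yon S).map p₂) (a₀ ≫ f)
      ((yon S).map κ ≫ b) := (sqT.map (yon S)).paste_horiz sq
  have hw : ((yon S).map p₁ ≫ (yon S).map e ≫ a₀) ≫ f = (yon S).map p₂ ≫ (yon S).map κ ≫ b := by
    have := big.w
    simpa only [Category.assoc] using this
  refine ⟨sqX.lift _ _ hw, sqX.lift_snd _ _ hw, ?_⟩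
  refine IsPullback.of_right ?_ ?_ sqX.flip
  · rw [sqX.lift_snd, Functor.map_comp]
    exact big.flip
  · rw [sqX.lift_fst, Functor.map_comp, Category.assoc]

/-- In the situation of `exists_fibre_chart`, the fibres of `U ⟶ V` are locally Noetherian when
those of `f` are. -/
theorem isLocallyNoetherian_fiber_of_isPullback {F G : Sp S} (f : F ⟶ G)
    (hf : ∀ (k : FieldPt G) (Xk : Sp S) (a : Xk ⟶ F) (b : Xk ⟶ (yon S).obj k.pt),
      IsPullback a b f k.toHom → IsLocNoethSp Xk)
    {U₀ U V : Over S} (a₀ : (yon S).obj U₀ ⟶ F) (ha₀ : RepWith @Etale a₀)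
    (b : (yon S).obj V ⟶ G) (e : U ⟶ U₀) (h : U ⟶ V)
    (sq : IsPullback ((yon S).map e) ((yon S).map h) (a₀ ≫ f) b) (v : ↥V.left) :
    IsLocallyNoetherian (h.left.fiber v) := by
  let k : FieldPt G := FieldPt.ofPt b v
  have hk : k.toHom = (yon S).map (resOverι V v) ≫ b := FieldPt.toHom_ofPt b v
  have sqX := IsPullback.of_hasPullback f ((yon S).map (resOverι V v) ≫ b)
  have hXk : IsLocNoethSp (pullback f ((yon S).map (resOverι V v) ≫ b)) :=
    hf k _ (pullback.fst f ((yon S).map (resOverι V v) ≫ b))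
      (pullback.snd f ((yon S).map (resOverι V v) ≫ b)) (by rw [hk]; exact sqX)
  obtain ⟨c, -, sqc⟩ := exists_fibre_chart f a₀ b e h sq (resOverι V v) (fibOverι h v)
    (fibOverTo h v) (isPullback_fibOver h v) _ _ sqX
  have hc : RepWith @Etale c := MorphismProperty.of_isPullback sqc.flip ha₀
  have key : IsLocallyNoetherian (fibOver h v).left :=
    Groth.Agent.H51.isLocallyNoetherian_of_isLocNoethSp (W := fibOver h v) hXk c hc
  exact key

/-- **Chart maps have locally Noetherian fibres** when the fibres of `f` over field points are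
locally Noetherian. -/
theorem isLocallyNoetherian_fiber_of_chart {F G : Sp S} (f : F ⟶ G)
    (hf : ∀ (k : FieldPt G) (Xk : Sp S) (a : Xk ⟶ F) (b : Xk ⟶ (yon S).obj k.pt),
      IsPullback a b f k.toHom → IsLocNoethSp Xk)
    {U V : Over S} (a : (yon S).obj U ⟶ F) (b : (yon S).obj V ⟶ G) (h : U ⟶ V)
    (ha : RepWith @Etale a) (hb : RepWith @Etale b) (w : a ≫ f = (yon S).map h ≫ b)
    (v : ↥V.left) : IsLocallyNoetherian (h.left.fiber v) := by
  obtain ⟨U₁, e, h₁, sq⟩ := Groth.Agent.H53.exists_pullback_yon (a ≫ f) b hb.rep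
  have he : Etale e.left := Groth.Agent.H53.prop_of_isPullback_yon sq hb
  have hN₁ : IsLocallyNoetherian (h₁.left.fiber v) :=
    isLocallyNoetherian_fiber_of_isPullback f hf a ha b e h₁ sq v
  -- the section `U ⟶ U₁`
  have hl : (yon S).map (𝟙 U) ≫ a ≫ f = (yon S).map h ≫ b := by
    rw [CategoryTheory.Functor.map_id, Category.id_comp, w]
  obtain ⟨σ, hσ⟩ := (yon S).map_surjective (sq.lift _ _ hl)
  have h1 : σ ≫ e = 𝟙 U := (yon S).map_injective (by rw [Functor.map_comp, hσ, sq.lift_fst])
  have h2 : σ ≫ h₁ = h := (yon S).map_injective (by rw [Functor.map_comp, hσ, sq.lift_snd])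
  have h1' : σ.left ≫ e.left = 𝟙 _ := by rw [← Over.comp_left, h1]; rfl
  have h2' : σ.left ≫ h₁.left = h.left := by rw [← Over.comp_left, h2]
  have hσe : Etale σ.left := by
    refine MorphismProperty.of_postcomp (W := @Etale) (W' := @Etale) σ.left e.left he ?_
    rw [h1']; infer_instance
  -- the fibre of `h` is the base change of the fibre of `h₁` along `σ`
  have sq₀ : IsPullback (h₁.left.fiberToSpecResidueField v) (h₁.left.fiberι v)
      (V.left.fromSpecResidueField v) h₁.left :=
    (IsPullback.of_hasPullback h₁.left (V.left.fromSpecResidueField v)).flip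
  have sq₁ : IsPullback (h.left.fiberToSpecResidueField v) (h.left.fiberι v)
      (V.left.fromSpecResidueField v) (σ.left ≫ h₁.left) := by
    rw [h2']
    exact (IsPullback.of_hasPullback h.left (V.left.fromSpecResidueField v)).flip
  obtain ⟨q₁, -, sqq⟩ := Groth.Agent.H53.ZMT.exists_lift_isPullback sq₀ sq₁
  have hq₁ : Etale q₁ := MorphismProperty.of_isPullback sqq.flip hσe
  exact LocallyOfFiniteType.isLocallyNoetherian q₁

end

end Groth.Agent.H53.Gor
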