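import Groth.Agent.H53.Gor.GorSpace
import Groth.Agent.H26.GorMorBC

/-!
# Gorenstein fibres of chart maps
-/

set_option autoImplicit false
universe u
open CategoryTheory CategoryTheory.Limits AlgebraicGeometry Opposite

namespace Groth.Agent.H53.Gor
open AlgSp

variable {S : Scheme.{u}}

/-- The scheme-theoretic fibre of `h` over `v` is a Gorenstein scheme as soon as it is locally
Noetherian and `h` is Gorenstein at all points over `v`. -/
theorem isGorenstein_fiber_of_forall {U V : Scheme.{u}} (h : U ⟶ V) (v : V)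
    (hN : IsLocallyNoetherian (h.fiber v))
    (hG : ∀ u : U, h u = v → Dual3.IsGorensteinAt h u) : Dual3.IsGorenstein (h.fiber v) := by
  refine ⟨hN, fun t => ?_⟩
  have hu : h (h.fiberι v t) = v := by
    have : h.fiberι v t ∈ Set.range (h.fiberι v) := ⟨t, rfl⟩
    rw [Scheme.Hom.range_fiberι] at this
    exact this
  exact (Groth.Agent.H26.GorMorBC.gor_fiber_stalk_iff_asFiber h (h.fiberι v t) v hu t rfl).2
    (hG _ hu).2

/-- **Fibres of a pullback chart.** For a chart `U = U₀ ×_Y V` of `f`, the fibre of `U ⟶ V` over `v`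
is an étale chart of the fibre of `f` over the residue field point of `v`, surjective when
`U₀ ⟶ X` is. -/
theorem exists_fibre_chart_etale {X Y : Sp S} (f : X ⟶ Y) {U₀ U V : Over S}
    (a₀ : (yon S).obj U₀ ⟶ X) (ha₀ : RepWith @Etale a₀)
    (b : (yon S).obj V ⟶ Y) (e : U ⟶ U₀) (h : U ⟶ V)
    (sq : IsPullback ((yon S).map e) ((yon S).map h) (a₀ ≫ f) b) (v : ↥V.left)
    {Xv : Sp S} (pa : Xv ⟶ X) (pc : Xv ⟶ (yon S).obj (resOver V v))
    (sqX : IsPullback pa pc f ((yon S).map (resOverι V v) ≫ b)) :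
    ∃ c : (yon S).obj (fibOver h v) ⟶ Xv, RepWith @Etale c ∧
      (RepWith @Surjective a₀ → RepWith @Surjective c) := by
  obtain ⟨c, -, sqc⟩ := exists_fibre_chart f a₀ b e h sq (resOverι V v) (fibOverι h v)
    (fibOverTo h v) (isPullback_fibOver h v) pa pc sqX
  exact ⟨c, MorphismProperty.of_isPullback sqc.flip ha₀,
    fun hS => MorphismProperty.of_isPullback sqc.flip hS⟩

end Groth.Agent.H53.Gor
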