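import Groth.Agent.H53.Gor.Tower
import Groth.Agent.S3624
import Groth.Agent.H51.GorFieldSp
import Groth.Agent.H14.HensProp.Strict

/-!
# Gorenstein algebraic spaces: étale charts, strict henselizations
-/

set_option autoImplicit false
universe u
open CategoryTheory CategoryTheory.Limits AlgebraicGeometry Opposite

namespace Groth.Agent.H53.Gor
open AlgSp

variable {S : Scheme.{u}}

/-- Gorensteinness ascends to a strict henselization. -/
theorem isGorensteinLocalRing_of_isStrictHenselization (A R : Type u) [CommRing A] [IsLocalRing A]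
    [CommRing R] [IsLocalRing R] [Algebra A R] [IsLocalHom (algebraMap A R)]
    [Hensel.IsStrictHenselization A R] (hA : LocCoh.IsGorensteinLocalRing A) :
    LocCoh.IsGorensteinLocalRing R := by
  have hS : Hensel.IsStrictHenselization A R := inferInstance
  have hNA : IsNoetherianRing A := inferInstance
  have hNR : IsNoetherianRing R := (Groth.Agent.H14.HensProp.strict_package A R).1
  have hff : Module.FaithfullyFlat A R := Groth.Agent.H3.SH.faithfullyFlat A hS
  have hm := Groth.Agent.H3.SH.map_maximalIdeal_eq_of_isStrictHenselization A hS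
  exact Groth.Agent.H26.GorFlat.isGorensteinLocalRing_of_flat_of_map_eq (algebraMap A R)
    (RingHom.flat_algebraMap_iff.mpr inferInstance) hm hA

/-- Every étale scheme chart of a Gorenstein sheaf is a Gorenstein scheme. -/
theorem isGorenstein_of_etaleLocally {X : Sp S} (hX : EtaleLocally Dual3.IsGorenstein X)
    {U : Over S} (a : (yon S).obj U ⟶ X) (ha : RepWith @Etale a) : Dual3.IsGorenstein U.left := by
  obtain ⟨U₀, a₀, ha₀E, ha₀S, hN₀, hG₀⟩ := hX
  obtain ⟨P, p, q, sq⟩ := Groth.Agent.H53.exists_pullback_yon a a₀ ha₀E.rep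
  have hpE : Etale p.left := Groth.Agent.H53.prop_of_isPullback_yon sq ha₀E
  have hpS : Surjective p.left := Groth.Agent.H53.prop_of_isPullback_yon sq ha₀S
  have hqE : Etale q.left := Groth.Agent.H53.prop_of_isPullback_yon sq.flip ha
  have h1 : IsLocallyNoetherian U₀.left := hN₀
  have h2 : IsLocallyNoetherian P.left := LocallyOfFiniteType.isLocallyNoetherian q.left
  have h3 : IsLocallyNoetherian U.left :=
    Groth.Agent.H53.isLocallyNoetherian_of_fppf_surjective p.left
  refine ⟨h3, fun u => ?_⟩
  obtain ⟨z, rfl⟩ := hpS.surj u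
  have hz : LocCoh.IsGorensteinLocalRing (P.left.presheaf.stalk z) :=
    Groth.Agent.H51.isGorenstein_stalk_of_smooth q.left z (hG₀ (q.left z))
  exact ((Groth.Agent.H26.GorMor.gor_stalk_iff_of_flat p.left z (Flat.stalkMap p.left z)).mp hz).1

/-- For a flat morphism from a Gorenstein sheaf to a locally Noetherian sheaf, every chart map is a
Gorenstein morphism, and the local rings of the target chart at image points are Gorenstein. -/
theorem gorenstein_chart_of_flat {X Y : Sp S} (f : X ⟶ Y) (hf : LocP @Flat f)
    (hY1 : IsLocNoethSp Y) (hX2 : EtaleLocally Dual3.IsGorenstein X)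
    {U V : Over S} (a : (yon S).obj U ⟶ X) (b : (yon S).obj V ⟶ Y) (h : U ⟶ V)
    (ha : RepWith @Etale a) (hb : RepWith @Etale b) (w : a ≫ f = (yon S).map h ≫ b) :
    Dual3.IsGorensteinMor h.left ∧
      ∀ u : ↥U.left, LocCoh.IsGorensteinLocalRing (V.left.presheaf.stalk (h.left u)) := by
  have hU : Dual3.IsGorenstein U.left := isGorenstein_of_etaleLocally hX2 a ha
  have hV : IsLocallyNoetherian V.left := Groth.Agent.H51.isLocallyNoetherian_of_isLocNoethSp hY1 b hb
  have hfl : Flat h.left := hf a b h ha hb w
  exact Groth.Agent.S3624.result U.left V.left h.left hU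

end Groth.Agent.H53.Gor
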