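import Groth.Agent.H53.Gor.GorSpace
import Groth.Agent.H26.GorDescent
import Groth.Agent.H49.FibreCM
import Groth.Agent.H3.UnionEtaleWeakly
import Groth.Agent.H10.FlatDescent

/-!
# Gorenstein fibre rings and strict henselizations
-/

set_option autoImplicit false
universe u
open IsLocalRing TensorProduct

namespace Groth.Agent.H53.Gor

section Quot

variable (B R : Type u) [CommRing B] [IsLocalRing B] [CommRing R] [IsLocalRing R]
  [Algebra B R] [IsLocalHom (algebraMap B R)] [Hensel.IsStrictHenselization B R]

/-- Elements of a quotient of a strict henselization come from étale algebras over the quotient of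
the base. -/
theorem inEtImage_quotient (I : Ideal B) (x : R ⧸ I.map (algebraMap B R)) :
    Groth.Agent.H14.HensProp.InEtImage (B ⧸ I) (R ⧸ I.map (algebraMap B R)) {x} := by
  obtain ⟨x, rfl⟩ := Ideal.Quotient.mk_surjective x
  obtain ⟨E, _, _, hE, φE, hx⟩ := Groth.Agent.H14.HensProp.inEtImage_of_isStrictHenselization B R x
  obtain ⟨e, he⟩ := hx rfl
  let g : E →ₐ[B] (R ⧸ I.map (algebraMap B R)) :=
    (Ideal.Quotient.mkₐ B (I.map (algebraMap B R))).comp φE
  let ψ : (B ⧸ I) ⊗[B] E →ₐ[B ⧸ I] (R ⧸ I.map (algebraMap B R)) :=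
    Algebra.TensorProduct.lift (Algebra.ofId (B ⧸ I) (R ⧸ I.map (algebraMap B R))) g
      (fun _ _ => Commute.all _ _)
  refine ⟨(B ⧸ I) ⊗[B] E, inferInstance, inferInstance, inferInstance, ψ, ?_⟩
  rintro _ rfl
  refine ⟨1 ⊗ₜ e, ?_⟩
  rw [Algebra.TensorProduct.lift_tmul, map_one, one_mul]
  change Ideal.Quotient.mk _ (φE e) = _
  rw [he]

/-- Gorensteinness of `B/I` is equivalent to that of `R/IR` for a strict henselization `R` of `B`,
when `B/I` is Noetherian. -/
theorem gor_quotient_iff_of_isStrictHenselization (I : Ideal B) (hI : I ≠ ⊤)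
    [IsNoetherianRing (B ⧸ I)] :
    LocCoh.IsGorensteinLocalRing (R ⧸ I.map (algebraMap B R)) ↔
      LocCoh.IsGorensteinLocalRing (B ⧸ I) := by
  have hS : Hensel.IsStrictHenselization B R := inferInstance
  have hff : Module.FaithfullyFlat B R := Groth.Agent.H3.SH.faithfullyFlat B hS
  have hmR : (maximalIdeal B).map (algebraMap B R) = maximalIdeal R :=
    Groth.Agent.H3.SH.map_maximalIdeal_eq_of_isStrictHenselization B hS
  have hI' : I.map (algebraMap B R) ≠ ⊤ := Groth.Agent.H49.FibreCM.map_ne_top I hI
  have l1 : IsLocalRing (B ⧸ I) := Groth.Agent.H49.FibreCM.isLocalRing_quotient I hI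
  have l2 : IsLocalRing (R ⧸ I.map (algebraMap B R)) :=
    Groth.Agent.H49.FibreCM.isLocalRing_quotient _ hI'
  have l3 : IsLocalHom (algebraMap (B ⧸ I) (R ⧸ I.map (algebraMap B R))) :=
    Groth.Agent.H49.FibreCM.isLocalHom_quotient (C := R) I hI
  have l4 : Module.Flat (B ⧸ I) (R ⧸ I.map (algebraMap B R)) :=
    Groth.Agent.H49.FibreCM.flat_quotient (C := R) I
  have hm : (maximalIdeal (B ⧸ I)).map (algebraMap (B ⧸ I) (R ⧸ I.map (algebraMap B R))) =
      maximalIdeal (R ⧸ I.map (algebraMap B R)) := by
    rw [Groth.Agent.H49.FibreCM.map_maximalIdeal_quotient (C := R) I hI, hmR]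
    exact Groth.Agent.H72.FlatCM.map_mk_maximalIdeal _ hI'
  have hN : IsNoetherianRing (R ⧸ I.map (algebraMap B R)) :=
    Groth.Agent.H14.HensProp.isNoetherianRing_of_inEtImage hm (inEtImage_quotient B R I)
  constructor
  · intro hR
    exact Groth.Agent.H26.GorDescent.isGorensteinLocalRing_of_flat_descent (B ⧸ I)
      (R ⧸ I.map (algebraMap B R)) hR
  · intro hB
    exact Groth.Agent.H26.GorFlat.isGorensteinLocalRing_of_flat_of_map_eq
      (algebraMap (B ⧸ I) (R ⧸ I.map (algebraMap B R)))
      (RingHom.flat_algebraMap_iff.mpr l4) hm hB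

end Quot

section Flat

variable (A B R' R : Type u) [CommRing A] [IsLocalRing A] [CommRing B] [IsLocalRing B]
  [CommRing R'] [IsLocalRing R'] [CommRing R] [IsLocalRing R]
  [Algebra A R'] [IsLocalHom (algebraMap A R')] [Hensel.IsStrictHenselization A R']
  [Algebra B R] [IsLocalHom (algebraMap B R)] [Hensel.IsStrictHenselization B R]

/-- Flatness of a local homomorphism is equivalent to flatness of the induced map on strict
henselizations. -/
theorem flat_iff_of_isStrictHenselization (ψ : A →+* B) (φ : R' →+* R)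
    (hφ : φ.comp (algebraMap A R') = (algebraMap B R).comp ψ) : φ.Flat ↔ ψ.Flat := by
  have hS' : Hensel.IsStrictHenselization A R' := inferInstance
  have hS : Hensel.IsStrictHenselization B R := inferInstance
  have hff' : Module.FaithfullyFlat A R' := Groth.Agent.H3.SH.faithfullyFlat A hS'
  have hff : Module.FaithfullyFlat B R := Groth.Agent.H3.SH.faithfullyFlat B hS
  constructor
  · intro h
    have h1 : (φ.comp (algebraMap A R')).Flat :=
      RingHom.Flat.comp (RingHom.flat_algebraMap_iff.mpr inferInstance) h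
    rw [hφ] at h1
    exact Groth.Agent.H10.ringHomFlat_of_comp_of_faithfullyFlat ψ (algebraMap B R)
      (RingHom.faithfullyFlat_algebraMap_iff.mpr hff) h1
  · intro h
    have hU : Groth.Agent.H3.UnionEtale.IsUnion A R' :=
      Groth.Agent.H3.StrictHensUnion.isUnion (R := A) (S := R')
    let _ : Algebra R' R := φ.toAlgebra
    let _ : Algebra A R := ((algebraMap B R).comp ψ).toAlgebra
    have hT : IsScalarTower A R' R := IsScalarTower.of_algebraMap_eq fun a => by
      change ((algebraMap B R).comp ψ) a = φ (algebraMap A R' a)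
      rw [← hφ]; rfl
    have hfl : Module.Flat A R := by
      have : ((algebraMap B R).comp ψ).Flat :=
        RingHom.Flat.comp h (RingHom.flat_algebraMap_iff.mpr inferInstance)
      exact this
    have : Module.Flat R' R := hU.flat_of_flat R
    exact this

end Flat

end Groth.Agent.H53.Gor
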