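import Groth.Agent.H53.Gor.ChartIndep
import Groth.Agent.H53.ChartSq

/-!
# Towers of charts for composable morphisms of algebraic spaces
-/

set_option autoImplicit false
universe u
open CategoryTheory CategoryTheory.Limits AlgebraicGeometry Opposite

namespace Groth.Agent.H53.Gor
open AlgSp

variable {S : Scheme.{u}}

/-- A chart diagram for `f` with étale surjective charts. -/
theorem exists_surj_chart {X Y : Sp S} (hX : IsAlgSpace X) (f : X ⟶ Y) {V : Over S}
    (b : (yon S).obj V ⟶ Y) (hbE : RepWith @Etale b) (hbS : RepWith @Surjective b) :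
    ∃ (U : Over S) (a : (yon S).obj U ⟶ X) (h : U ⟶ V),
      RepWith @Etale a ∧ RepWith @Surjective a ∧ a ≫ f = (yon S).map h ≫ b := by
  obtain ⟨U₀, a₀, ha₀E, ha₀S⟩ := hX.atlas
  obtain ⟨U, q, h, hq, haE, hw, hqS, -⟩ :=
    Groth.Agent.H53.exists_chart_square f a₀ b ha₀E hbE
  exact ⟨U, (yon S).map q ≫ a₀, h, haE,
    (RepWith @Surjective).comp_mem _ _ ((repWith_yon_map_iff _ _).2 (hqS hbS)) ha₀S, hw⟩

/-- A tower of chart diagrams for composable morphisms `f`, `g` with étale surjective charts. -/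
theorem exists_chart_tower {X Y Z : Sp S} (hX : IsAlgSpace X) (hY : IsAlgSpace Y)
    (hZ : IsAlgSpace Z) (f : X ⟶ Y) (g : Y ⟶ Z) :
    ∃ (U V W : Over S) (a : (yon S).obj U ⟶ X) (b : (yon S).obj V ⟶ Y)
      (c : (yon S).obj W ⟶ Z) (h : U ⟶ V) (k : V ⟶ W),
      RepWith @Etale a ∧ RepWith @Surjective a ∧ RepWith @Etale b ∧ RepWith @Surjective b ∧
      RepWith @Etale c ∧ RepWith @Surjective c ∧
      a ≫ f = (yon S).map h ≫ b ∧ b ≫ g = (yon S).map k ≫ c := by
  obtain ⟨W, c, hcE, hcS⟩ := hZ.atlas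
  obtain ⟨V, b, k, hbE, hbS, hw2⟩ := exists_surj_chart hY g c hcE hcS
  obtain ⟨U, a, h, haE, haS, hw1⟩ := exists_surj_chart hX f b hbE hbS
  exact ⟨U, V, W, a, b, c, h, k, haE, haS, hbE, hbS, hcE, hcS, hw1, hw2⟩

end Groth.Agent.H53.Gor
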